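import Mathlib.RingTheory.DiscreteValuationRing.Basic
import Mathlib.LinearAlgebra.FreeModule.PID
import Mathlib.LinearAlgebra.Dimension.Localization
import Mathlib.LinearAlgebra.Dimension.RankNullity
import Mathlib.LinearAlgebra.Dimension.Finite
import Mathlib.RingTheory.Nakayama
import Mathlib.Algebra.Module.Torsion.Basic

/-!
# Lifting through a reduction of finite modules over a discrete valuation ring

Two finite modules `M`, `N` over a discrete valuation ring with reductions `ρ`, `red` into `G` (think: sections of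
a module, of the free module and of their common restriction modulo `ϖ ^ n`). If the torsion is bounded, the
kernels of the reductions are bounded, `red` is surjective up to a bounded power and `M` has at least the
generic rank of `N`, then `ρ` is surjective onto the image of `red` up to a bounded power.
-/

set_option autoImplicit false
set_option linter.style.haveILetI false
set_option linter.unusedSectionVars false

namespace Groth.Agent.H8Props.FreeOverDVR

open Submodule

variable {R : Type*} [CommRing R] [IsDomain R] [IsDiscreteValuationRing R] {ϖ : R} (hϖ : Irreducible ϖ)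
  {M : Type*} [AddCommGroup M] [Module R M] {N : Type*} [AddCommGroup N] [Module R N]

include hϖ in
/-- Torsion elements are killed by a power of the uniformizer. -/
theorem exists_pow_smul_eq_zero {x : M} (hx : x ∈ torsion R M) : ∃ k : ℕ, ϖ ^ k • x = 0 := by
  obtain ⟨⟨r, hr⟩, hrx⟩ := (mem_torsion_iff x).1 hx
  obtain ⟨k, u, rfl⟩ := IsDiscreteValuationRing.eq_unit_mul_pow_irreducible (nonZeroDivisors.ne_zero hr) hϖ
  refine ⟨k, u.isUnit.smul_eq_zero.1 ?_⟩
  rw [← mul_smul]
  exact hrx

include hϖ in
theorem mem_torsion_of_pow {x : M} {k : ℕ} (h : ϖ ^ k • x = 0) : x ∈ torsion R M :=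
  (mem_torsion_iff x).2 ⟨⟨ϖ ^ k, mem_nonZeroDivisors_of_ne_zero (pow_ne_zero k hϖ.ne_zero)⟩, h⟩

include hϖ in
theorem mk_cancel {x y : M} {k : ℕ} (h : ϖ ^ k • x = ϖ ^ k • y) :
    (Submodule.Quotient.mk x : M ⧸ torsion R M) = Submodule.Quotient.mk y :=
  (Submodule.Quotient.eq _).2 (mem_torsion_of_pow hϖ (k := k) (by rw [smul_sub, h, sub_self]))

variable [Module.Finite R M] [Module.Finite R N] {G : Type*} [AddCommGroup G] [Module R G]
  {GK : Type*} [AddCommGroup GK] [Module R GK] (red : N →ₗ[R] G) (ρ : M →ₗ[R] G)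
  (redK : N →ₗ[R] GK) (ρK : M →ₗ[R] GK) {a c n : ℕ}

include hϖ in
/-- Surjectivity of the reduction up to a bounded power. -/
theorem exists_preimage (hn : 2 * a + c + 1 ≤ n)
    (tM : ∀ (m : M) (k : ℕ), ϖ ^ k • m = 0 → ϖ ^ a • m = 0)
    (tN : ∀ (l : N) (k : ℕ), ϖ ^ k • l = 0 → ϖ ^ a • l = 0)
    (tK : ∀ (x : GK) (k : ℕ), ϖ ^ k • x = 0 → x = 0)
    (h1 : ∀ m : M, ρ m = 0 → ∃ g : M, ϖ ^ n • g = ϖ ^ a • m)
    (h2 : ∀ g : G, ∃ z : N, red z = ϖ ^ c • g)
    (h3 : ∀ (m : M) (g : G) (e : ℕ), a + c + e ≤ n → ρ (ϖ ^ (a + c) • m) = ϖ ^ (a + c + e) • g →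
      ∃ g' : M, ϖ ^ (a + e) • g' = ϖ ^ (2 * a) • m)
    (h4 : ∀ l : N, ∃ (k : ℕ) (m : M), ρK m = ϖ ^ k • redK l)
    (hker : ∀ l : N, redK l = 0 → ∃ k : ℕ, ϖ ^ k • l = 0) (l₀ : N) :
    ∃ m : M, ρ m = ϖ ^ (2 * a + c) • red l₀ := by
  let M' := M ⧸ torsion R M
  let N' := N ⧸ torsion R N
  haveI : Module.Free R M' := Module.free_of_finite_type_torsion_free'
  haveI : Module.Free R N' := Module.free_of_finite_type_torsion_free'
  let b := Module.Free.chooseBasis R M'
  choose μ hμ using fun j => Submodule.Quotient.mk_surjective (torsion R M) (b j)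
  choose z hz using fun j => h2 (ρ (μ j))
  let Φ : M' →ₗ[R] N' := b.constr R fun j => Submodule.Quotient.mk (z j)
  -- the defining property of `Φ`
  have key : ∀ (m : M) (w : N), (Submodule.Quotient.mk w : N') = Φ (Submodule.Quotient.mk m) →
      red (ϖ ^ a • w) = ρ (ϖ ^ (a + c) • m) := by
    intro m w hw
    let lam := b.repr (Submodule.Quotient.mk m)
    have hm : (Submodule.Quotient.mk (m - ∑ j, lam j • μ j) : M') = 0 := by
      rw [Submodule.Quotient.mk_sub, sub_eq_zero]
      refine (b.sum_repr _).symm.trans (Eq.trans ?_ (map_sum (torsion R M).mkQ (fun j => lam j • μ j) _).symm)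
      exact Finset.sum_congr rfl fun j _ => by rw [map_smul, Submodule.mkQ_apply, hμ]
    have hw' : (Submodule.Quotient.mk (w - ∑ j, lam j • z j) : N') = 0 := by
      rw [Submodule.Quotient.mk_sub, sub_eq_zero, hw]
      refine (congrArg Φ (b.sum_repr _).symm).trans ?_
      refine (map_sum Φ _ _).trans (Eq.trans ?_ (map_sum (torsion R N).mkQ (fun j => lam j • z j) _).symm)
      exact Finset.sum_congr rfl fun j _ => by
        rw [map_smul, map_smul, Module.Basis.constr_basis]; rfl
    obtain ⟨k, hk⟩ := exists_pow_smul_eq_zero hϖ ((Submodule.Quotient.mk_eq_zero _).1 hm)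
    obtain ⟨k', hk'⟩ := exists_pow_smul_eq_zero hϖ ((Submodule.Quotient.mk_eq_zero _).1 hw')
    have e1 := tM _ _ hk
    have e2 := tN _ _ hk'
    rw [smul_sub, sub_eq_zero] at e1 e2
    rw [e2, pow_add, mul_comm, mul_smul, e1, map_smul, map_smul, map_smul, map_sum, map_sum,
      Finset.smul_sum, Finset.smul_sum, Finset.smul_sum]
    exact Finset.sum_congr rfl fun j _ => by
      rw [map_smul, map_smul, hz, smul_comm (ϖ ^ c) (ϖ ^ a), smul_comm (ϖ ^ c) (lam j)]
  -- `Φ` is injective
  have hinj : LinearMap.ker Φ = ⊥ := by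
    refine Submodule.eq_bot_of_le_smul_of_le_jacobson_bot (Ideal.span {ϖ}) _ (IsNoetherian.noetherian _) ?_ ?_
    · intro x hx
      obtain ⟨m, rfl⟩ := Submodule.Quotient.mk_surjective _ x
      have h0 := key m 0 (by rw [Submodule.Quotient.mk_zero]; exact (LinearMap.mem_ker.1 hx).symm)
      rw [smul_zero, map_zero] at h0
      obtain ⟨g, hg⟩ := h1 _ h0.symm
      have e : (Submodule.Quotient.mk m : M') = ϖ ^ (n - (2 * a + c)) • Submodule.Quotient.mk g := by
        rw [← Submodule.Quotient.mk_smul]
        refine mk_cancel hϖ (k := 2 * a + c) ?_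
        rw [← mul_smul, ← pow_add, Nat.add_sub_cancel' (by omega), hg, ← mul_smul, ← pow_add]
        congr 2
        omega
      rw [e] at hx ⊢
      have hg0 : Φ (Submodule.Quotient.mk g) = 0 := by
        have := LinearMap.mem_ker.1 hx
        rw [map_smul] at this
        exact (smul_eq_zero_iff_right (pow_ne_zero _ hϖ.ne_zero)).1 this
      refine Submodule.smul_mem_smul ?_ (LinearMap.mem_ker.2 hg0)
      exact Ideal.mem_span_singleton.2 (dvd_pow_self _ (by omega))
    · rw [IsLocalRing.jacobson_eq_maximalIdeal _ bot_ne_top, hϖ.maximalIdeal_eq]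
  -- ranks
  have hrk : Module.finrank R N' ≤ Module.finrank R M' := by
    let bN := Module.Free.chooseBasis R N'
    choose l hl using fun i => Submodule.Quotient.mk_surjective (torsion R N) (bN i)
    choose k m hm using fun i => h4 (l i)
    have hli : LinearIndependent R fun i => (Submodule.Quotient.mk (m i) : M') := by
      refine Fintype.linearIndependent_iff.2 fun lam hlam i => ?_
      have h0 : ρK (∑ i, lam i • m i) = 0 := by
        obtain ⟨q, hq⟩ := exists_pow_smul_eq_zero hϖ (x := ∑ i, lam i • m i)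
          ((Submodule.Quotient.mk_eq_zero _).1 (by
            rw [← Submodule.mkQ_apply, map_sum]
            exact (Finset.sum_congr rfl fun i _ => map_smul _ _ _).trans hlam))
        exact tK _ q (by rw [← map_smul, hq, map_zero])
      rw [map_sum] at h0
      have h5 : redK (∑ i, (lam i * ϖ ^ k i) • l i) = 0 := by
        rw [map_sum]
        refine Eq.trans ?_ h0
        exact Finset.sum_congr rfl fun i _ => by rw [map_smul, map_smul, hm, mul_smul]
      obtain ⟨q, hq⟩ := hker _ h5
      have h6 : ∑ i, (lam i * ϖ ^ k i) • bN i = 0 := by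
        have := (Submodule.Quotient.mk_eq_zero (p := torsion R N)).2 (mem_torsion_of_pow hϖ hq)
        rw [← Submodule.mkQ_apply, map_sum] at this
        refine Eq.trans ?_ this
        exact Finset.sum_congr rfl fun i _ => by rw [map_smul, Submodule.mkQ_apply, hl]
      have h7 := Fintype.linearIndependent_iff.1 bN.linearIndependent _ h6 i
      exact (mul_eq_zero.1 h7).resolve_right (pow_ne_zero _ hϖ.ne_zero)
    rw [Module.finrank_eq_card_chooseBasisIndex R N']
    exact hli.fintype_card_le_finrank
  -- a bounded power of every element is in the image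
  let l' : N' := Submodule.Quotient.mk l₀
  have hex : ∃ k : ℕ, ϖ ^ k • l' ∈ LinearMap.range Φ := by
    have hq : Module.finrank R (N' ⧸ LinearMap.range Φ) = 0 := by
      have h := Submodule.finrank_quotient_add_finrank (LinearMap.range Φ)
      have h' := LinearMap.finrank_range_of_inj (LinearMap.ker_eq_bot.1 hinj)
      omega
    obtain ⟨r, hr⟩ := Module.finrank_eq_zero_iff.1 hq (Submodule.Quotient.mk l')
    obtain ⟨k, hk⟩ := exists_pow_smul_eq_zero hϖ (x := (Submodule.Quotient.mk l' : N' ⧸ LinearMap.range Φ))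
      ((mem_torsion_iff _).2 ⟨⟨r, mem_nonZeroDivisors_of_ne_zero hr.1⟩, hr.2⟩)
    exact ⟨k, (Submodule.Quotient.mk_eq_zero _).1 hk⟩
  classical
  have hbound : Nat.find hex ≤ a + c := by
    by_contra hk
    push Not at hk
    obtain ⟨x, hx⟩ := Nat.find_spec hex
    obtain ⟨m, rfl⟩ := Submodule.Quotient.mk_surjective _ x
    generalize hkk : Nat.find hex = k at hk hx
    let e := min (k - c) (n - (a + c))
    have h8 := key m (ϖ ^ k • l₀) (by rw [Submodule.Quotient.mk_smul]; exact hx.symm)
    obtain ⟨g', hg'⟩ := h3 m (ϖ ^ (k - c - e) • red l₀) e (by omega) (by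
      rw [← h8, map_smul, map_smul, ← mul_smul, ← mul_smul, ← pow_add, ← pow_add]
      congr 2
      omega)
    have e1 : (Submodule.Quotient.mk m : M') = ϖ ^ (e - a) • Submodule.Quotient.mk g' := by
      rw [← Submodule.Quotient.mk_smul]
      refine mk_cancel hϖ (k := 2 * a) ?_
      rw [← hg', ← mul_smul, ← pow_add]
      congr 2
      omega
    refine Nat.find_min hex (m := k - 1) (by omega) ⟨ϖ ^ (e - a - 1) • Submodule.Quotient.mk g', ?_⟩
    refine smul_right_injective N' hϖ.ne_zero ?_
    show ϖ • Φ _ = ϖ • _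
    rw [← map_smul, ← mul_smul, ← pow_succ', show e - a - 1 + 1 = e - a by omega, ← e1, hx, ← mul_smul,
      ← pow_succ']
    congr 2
    omega
  obtain ⟨x, hx⟩ : ϖ ^ (a + c) • l' ∈ LinearMap.range Φ := by
    rw [show a + c = (a + c - Nat.find hex) + Nat.find hex by omega, pow_add, mul_smul]
    exact Submodule.smul_mem _ _ (Nat.find_spec hex)
  obtain ⟨m, rfl⟩ := Submodule.Quotient.mk_surjective _ x
  refine ⟨ϖ ^ (a + c) • m, ?_⟩
  rw [← key m (ϖ ^ (a + c) • l₀) (by rw [Submodule.Quotient.mk_smul]; exact hx.symm), map_smul, map_smul,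
    ← mul_smul, ← pow_add]
  congr 2
  omega

end Groth.Agent.H8Props.FreeOverDVR
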