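import Groth.Agent.H8Props.FreeOverDVR.Reduction
import Groth.Agent.H10Coh.FibreLift.Sections
import Groth.Agent.H10Coh.Proper2

/-!
# Functions on a thickening lift up to a bounded power of the uniformizer
-/

set_option autoImplicit false
set_option linter.style.haveILetI false
set_option linter.unusedSectionVars false

universe u

open AlgebraicGeometry CategoryTheory CategoryTheory.Limits TopologicalSpace Opposite

namespace Groth.Agent.H8Props.FreeOverDVR

open Groth.Agent.LeadFF Groth.Agent.LeadBC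

attribute [local instance 10000] H10Coh.hasSheafifyAb H10Coh.hasWeakSheafifyAb H10Coh.hasExtAb H10Coh.enoughInjAb

theorem exists_torsion_bound {R : Type u} [CommRing R] [IsNoetherianRing R] (ϖ : R) (Q : Type u) [AddCommGroup Q]
    [Module R Q] [Module.Finite R Q] : ∃ b : ℕ, ∀ (k : ℕ) (x : Q), ϖ ^ k • x = 0 → ϖ ^ b • x = 0 := by
  let g : ℕ →o Submodule R Q :=
    ⟨fun k => LinearMap.ker (LinearMap.lsmul R Q (ϖ ^ k)), fun k l hkl x hx => by
      rw [LinearMap.mem_ker, LinearMap.lsmul_apply] at hx ⊢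
      rw [← Nat.sub_add_cancel hkl, pow_add, mul_smul, hx, smul_zero]⟩
  obtain ⟨a, ha⟩ := monotone_stabilizes_iff_noetherian.2 inferInstance g
  refine ⟨a, fun k x hx => ?_⟩
  have : x ∈ g (max a k) := g.2 (le_max_right a k) (show x ∈ LinearMap.ker (LinearMap.lsmul R Q (ϖ ^ k)) from
    LinearMap.mem_ker.2 hx)
  rw [← ha _ (le_max_left a k)] at this
  exact LinearMap.mem_ker.1 this

theorem pw_smul_sec {R : Type u} [CommRing R] {X : Scheme.{u}} [X.Over (Spec (CommRingCat.of R))] (ϖ : R)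
    (G : X.Modules) (V : X.Opens) (k : ℕ) (x : sec R G V) :
    (show Γ(G, V) from ϖ ^ k • x) = pw (X ↘ Spec (CommRingCat.of R)) ϖ V k • (show Γ(G, V) from x) := by
  show sc R V (ϖ ^ k) • (show Γ(G, V) from x) = _
  rw [map_pow]

theorem exists_lift_bound {R : Type u} [CommRing R] [IsNoetherianRing R] {X : Scheme.{u}}
    (f : X ⟶ Spec (CommRingCat.of R)) [IsProper f] (ϖ : R) {a : ℕ} (hO : TorBO f ϖ a) :
    ∃ c : ℕ, ∀ (n : ℕ) {X' : Scheme.{u}} (q : X' ⟶ X), IsModPow f ϖ q n → ∀ σ : Γ(X', ⊤),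
      ∃ s : Γ(X, ⊤), q.appTop s = pw (q ≫ f) ϖ ⊤ c * σ := by
  letI : X.Over (Spec (CommRingCat.of R)) := ⟨f⟩
  haveI : IsProper (X ↘ Spec (CommRingCat.of R)) := ‹_›
  let O := Coh.structureModule X
  haveI : O.IsQuasicoherent := (H10Coh.isCoh_structureModule' X).1
  obtain ⟨ι, hι, U, hU⟩ := exists_goodCover R (X := X)
  haveI : Module.Finite R ((KC R U O).homology 1) :=
    haveI := H10Coh.finite_HH_proper R X O (H10Coh.isCoh_structureModule' X) 1
    Module.Finite.equiv (eHH R hU O 1).symm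
  obtain ⟨b, hb⟩ := exists_torsion_bound ϖ ((KC R U O).homology 1)
  refine ⟨a + b, fun n X' q hq σ => ?_⟩
  let cap := fun {p : ℕ} (c : Fin (p + 1) → ι) => H15Site.CechTop.cap U c
  -- lifts on the cover
  choose x hx using fun c : Fin 1 → ι => hq.surj (hU.affine 0 c)
    (X'.presheaf.map (homOfLE (le_top : q ⁻¹ᵁ cap c ≤ ⊤)).op σ)
  let x' : Kp R U O 0 := x
  have hker : ∀ c : Fin 2 → ι, ∃ y : sec R O (cap c), dK R U O 0 x' c = ϖ ^ n • y := by
    intro c
    have hres : ∀ (d : Fin 1 → ι) (hle : cap c ≤ cap d), q.app (cap c)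
        (X.presheaf.map (homOfLE hle).op (x d)) = X'.presheaf.map (homOfLE le_top).op σ := fun d hle => by
      rw [← ConcreteCategory.comp_apply, Scheme.Hom.naturality, ConcreteCategory.comp_apply, hx d,
        ← ConcreteCategory.comp_apply, ← Functor.map_comp]
      rfl
    have h0 : q.app (cap c) (show Γ(X, cap c) from dK R U O 0 x' c) = 0 := by
      rw [dK_apply, Fin.sum_univ_two]
      simp only [Fin.val_zero, Fin.val_one, pow_zero, pow_one, one_smul, neg_smul]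
      exact (map_add (q.app (cap c)).hom _ _).trans (((congrArg₂ (· + ·)
        (hres _ (H15Site.CechTop.cap_comp_le U c (Fin.succAbove 0)))
        ((map_neg (q.app (cap c)).hom _).trans
          (congrArg Neg.neg (hres _ (H15Site.CechTop.cap_comp_le U c (Fin.succAbove 1))))))).trans (add_neg_cancel _))
    obtain ⟨y, hy⟩ := hq.ker (hU.affine 1 c) _ h0
    exact ⟨y, hy.trans (pw_smul_sec ϖ O (cap c) n y).symm⟩
  choose y hy using hker
  let y' : Kp R U O 1 := y
  have hdx : dK R U O 0 x' = ϖ ^ n • y' := funext hy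
  have h2 : dK R U O 1 (ϖ ^ a • y') = 0 := by
    have h1 : ϖ ^ n • dK R U O 1 y' = 0 := by
      rw [← map_smul, ← hdx]
      exact LinearMap.congr_fun (dK_dK R U O 0) x'
    rw [map_smul]
    funext c
    have := congrFun h1 c
    exact (pw_smul_sec ϖ O (cap c) a _).trans
      (torB_structureModule f ϖ hO (cap c) _ n ((pw_smul_sec ϖ O (cap c) n _).symm.trans this))
  have hd1 : ((KC R U O).d 1 2).hom = dK R U O 1 := congrArg ModuleCat.Hom.hom (KC_d R U O 1)
  have hd0 : ((KC R U O).d 0 1).hom = dK R U O 0 := congrArg ModuleCat.Hom.hom (KC_d R U O 0)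
  let z : LinearMap.ker ((KC R U O).d 1 2).hom := ⟨ϖ ^ a • y', by rw [LinearMap.mem_ker, hd1]; exact h2⟩
  let cls := H06FlatCx.cls (KC R U O) (j := 1) (k := 2) (CochainComplex.next ℕ 1)
  have h3 : ϖ ^ n • cls z = 0 := by
    rw [← map_smul, H06FlatCx.cls_eq_zero_iff _ (CochainComplex.prev_nat_succ 0) _, hd0]
    refine ⟨ϖ ^ a • x', ?_⟩
    show dK R U O 0 (ϖ ^ a • x') = ϖ ^ n • (ϖ ^ a • y')
    rw [map_smul, hdx, smul_comm]
  have h4 := hb n _ h3
  rw [← map_smul, H06FlatCx.cls_eq_zero_iff _ (CochainComplex.prev_nat_succ 0) _, hd0] at h4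
  obtain ⟨w₀, hw⟩ := h4
  let w : Kp R U O 0 := w₀
  have hw' : dK R U O 0 w = ϖ ^ b • ϖ ^ a • y' := hw
  obtain ⟨s, hs⟩ := H10Coh.FibreLift.exists_of_dK_eq_zero O hU (ϖ ^ (a + b) • x' - ϖ ^ n • w) (by
    rw [map_sub, map_smul, map_smul, hdx, hw', ← mul_smul, ← mul_smul, ← mul_smul, sub_eq_zero]
    congr 1
    ring)
  refine ⟨s, TopCat.Sheaf.eq_of_locally_eq' X'.sheaf (fun c : Fin 1 → ι => q ⁻¹ᵁ cap c) ⊤ (fun _ => homOfLE le_top)
    (fun p _ => ?_) _ _ fun c => ?_⟩
  · obtain ⟨i, hi⟩ := Opens.mem_iSup.1 (hU.cover (Opens.mem_top (q p)))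
    exact Opens.mem_iSup.2 ⟨fun _ => i, (show U i ≤ cap (fun _ : Fin 1 => i) from le_iInf fun _ => le_rfl) hi⟩
  · show X'.presheaf.map (homOfLE (le_top : q ⁻¹ᵁ cap c ≤ q ⁻¹ᵁ ⊤)).op (q.app ⊤ s) =
      X'.presheaf.map (homOfLE le_top).op (pw (q ≫ f) ϖ ⊤ (a + b) * σ)
    rw [map_mul, res_pw, ← hx c, ← app_pw, ← map_mul]
    refine (ConcreteCategory.congr_hom (Scheme.Hom.naturality q (homOfLE (le_top : cap c ≤ ⊤)).op) s).symm.trans ?_
    have h5 : X.presheaf.map (homOfLE (le_top : cap c ≤ ⊤)).op (show Γ(X, ⊤) from s) =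
        pw f ϖ (cap c) (a + b) * x c - pw f ϖ (cap c) n * (show Γ(X, cap c) from w c) :=
      (hs c).trans (congrArg₂ (· - ·) (pw_smul_sec ϖ O (cap c) (a + b) (x' c)) (pw_smul_sec ϖ O (cap c) n (w c)))
    have h6 : q.app (cap c) (pw f ϖ (cap c) n) = 0 := (app_pw f ϖ q _ n).trans (hq.pw_eq_zero _)
    refine (congrArg (q.app (cap c)).hom h5).trans ?_
    rw [map_sub, map_mul (q.app (cap c)).hom (pw f ϖ (cap c) n), h6, zero_mul, sub_zero]

end Groth.Agent.H8Props.FreeOverDVR
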