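import Groth.Agent.H8Props.FreeOverDVR.Reduction
import Groth.Agent.H28Pinch.FreeBasisIso
import Groth.Agent.H10Coh.Pn.Results
import Groth.Agent.H10Coh.Proper2

/-!
# Global sections as modules over the base, coordinates, and reductions on basis opens
-/

set_option autoImplicit false
set_option linter.style.haveILetI false
set_option linter.unusedSectionVars false

universe u

open AlgebraicGeometry CategoryTheory CategoryTheory.Limits TopologicalSpace Opposite

namespace Groth.Agent.H8Props.FreeOverDVR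

open Groth.Agent.LeadFF Groth.Agent.H28Pinch

attribute [local instance 10000] H10Coh.hasSheafifyAb H10Coh.hasWeakSheafifyAb H10Coh.hasExtAb H10Coh.enoughInjAb

variable {R : Type u} [CommRing R] {X X' : Scheme.{u}}

/-- Global sections over the base. -/
noncomputable abbrev Sec (g : X ⟶ Spec (CommRingCat.of R)) (G : X.Modules) : ModuleCat.{u} R :=
  (ModuleCat.restrictScalars (glob g)).obj (ModuleCat.of Γ(X, ⊤) Γ(G, ⊤))

variable (f : X ⟶ Spec (CommRingCat.of R)) (ϖ : R) (q : X' ⟶ X)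

theorem scal_top (r : R) : scal f ⊤ r = glob f r := by
  show X.presheaf.map (homOfLE le_top).op (glob f r) = _
  rw [show (homOfLE (le_top : (⊤ : X.Opens) ≤ ⊤)).op = 𝟙 _ from rfl, CategoryTheory.Functor.map_id]
  rfl

theorem pow_smul_sec (G : X.Modules) (k : ℕ) (x : Sec f G) :
    (show Γ(G, ⊤) from ϖ ^ k • x) = pw f ϖ ⊤ k • (show Γ(G, ⊤) from x) := by
  show glob f (ϖ ^ k) • (show Γ(G, ⊤) from x) = _
  rw [map_pow, pw, scal_top]

theorem finite_sec [IsNoetherianRing R] [IsProper f] (G : X.Modules) (hG : Coh.IsCoh G) :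
    Module.Finite R (Sec f G) := by
  letI : X.Over (Spec (CommRingCat.of R)) := ⟨f⟩
  haveI : IsProper (X ↘ Spec (CommRingCat.of R)) := ‹_›
  haveI := H10Coh.finite_HH_proper R X G hG 0
  exact Module.Finite.equiv (R := R) (M := Coh.HH X G 0) (N := Sec f G)
    { H10Coh.HH0Equiv G with
      map_smul' := fun c x => (H10Coh.HH0Equiv_smul G (Coh.toGlobal f c) x).trans rfl }

/-- Pulling back global functions. -/
noncomputable def redL : Sec f (Coh.structureModule X) →ₗ[R] Sec (q ≫ f) (Coh.structureModule X') where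
  toFun x := q.appTop (show Γ(X, ⊤) from x)
  map_add' _ _ := map_add q.appTop.hom _ _
  map_smul' r s := by
    show q.appTop (glob f r * (show Γ(X, ⊤) from s)) = (q.appTop (glob f r)) * q.appTop _
    exact map_mul q.appTop.hom _ _

/-- Pulling back global sections. -/
noncomputable def pullL (E : X.Modules) : Sec f E →ₗ[R] Sec (q ≫ f) ((Scheme.Modules.pullback q).obj E) where
  toFun s := OmegaSh.pullSect q E ⊤ (show Γ(E, ⊤) from s)
  map_add' _ _ := map_add _ _ _
  map_smul' r s := OmegaSh.pullSect_smul q E ⊤ (glob f r) (show Γ(E, ⊤) from s)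

variable {E : X.Modules}

/-- Combinations of a global basis, linearly over the base. -/
noncomputable def combL {r : ℕ} (ε : Fin r → Γ(E, ⊤)) :
    (Fin r → Sec f (Coh.structureModule X)) →ₗ[R] Sec f E where
  toFun c := (∑ j, (show Γ(X, ⊤) from c j) • ε j : Γ(E, ⊤))
  map_add' c d := (Finset.sum_congr rfl fun j _ => add_smul (show Γ(X, ⊤) from c j) (show Γ(X, ⊤) from d j) (ε j)).trans
    Finset.sum_add_distrib
  map_smul' a c := by
    show (∑ j, (glob f a * (show Γ(X, ⊤) from c j)) • ε j : Γ(E, ⊤)) = glob f a • ∑ j, (show Γ(X, ⊤) from c j) • ε j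
    rw [Finset.smul_sum]
    exact Finset.sum_congr rfl fun j _ => mul_smul _ _ _

theorem bijective_combL {r : ℕ} {ε : Fin r → Γ(E, ⊤)} (hε : IsBasisOn E ε) :
    Function.Bijective (combL f ε) := by
  have e : (combL f ε : (Fin r → Sec f (Coh.structureModule X)) → Γ(E, ⊤)) = comb E ε le_rfl := by
    funext c
    show (∑ j, (show Γ(X, ⊤) from c j) • ε j : Γ(E, ⊤)) =
      ∑ j, (show Γ(X, ⊤) from c j) • E.presheaf.map (homOfLE le_rfl).op (ε j)
    exact Finset.sum_congr rfl fun j _ => by rw [H10Coh.mres_self]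
  exact e ▸ hε ⊤ le_rfl

variable {f ϖ q} {V : X.Opens} {r : ℕ} {m : Fin r → Γ(E, V)}

theorem comb_smul (hVW : V ≤ V) (b : Γ(X, V)) (c : Fin r → Γ(X, V)) :
    comb E m hVW (fun i => b * c i) = b • comb E m hVW c := by
  rw [comb, comb, Finset.smul_sum]
  exact Finset.sum_congr rfl fun i _ => mul_smul _ _ _

theorem comb_zero {Y : Scheme.{u}} {G : Y.Modules} {W W' : Y.Opens} {s : ℕ} {e : Fin s → Γ(G, W)} (h : W' ≤ W) :
    comb G e h 0 = 0 := Finset.sum_eq_zero fun _ _ => zero_smul _ _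

theorem pullSect_comb (c : Fin r → Γ(X, V)) :
    OmegaSh.pullSect q E V (comb E m le_rfl c) =
      comb _ (fun j => OmegaSh.pullSect q E V (m j)) (le_refl (q ⁻¹ᵁ V)) (fun j => q.app V (c j)) := by
  rw [comb, map_sum, comb]
  exact Finset.sum_congr rfl fun j _ => by
    rw [OmegaSh.pullSect_smul, H10Coh.mres_self, H10Coh.mres_self]

variable (hqc : Coh.IsQCoh E) (hV : IsAffineOpen V) (hm : IsBasisOn E m)

include hqc hV hm

theorem IsModPow.surj_pullSect {n : ℕ} (hq : IsModPow f ϖ q n)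
    (σ : Γ((Scheme.Modules.pullback q).obj E, q ⁻¹ᵁ V)) : ∃ t : Γ(E, V), OmegaSh.pullSect q E V t = σ := by
  obtain ⟨d, rfl⟩ := ((hm.pullback q hqc) _ le_rfl).2 σ
  choose c hc using fun j => hq.surj hV (d j)
  exact ⟨comb E m le_rfl c, (pullSect_comb c).trans (congrArg _ (funext hc))⟩

theorem IsModPow.ker_pullSect {n : ℕ} (hq : IsModPow f ϖ q n) {t : Γ(E, V)}
    (ht : OmegaSh.pullSect q E V t = 0) : ∃ w : Γ(E, V), t = pw f ϖ V n • w := by
  obtain ⟨c, rfl⟩ := (hm V le_rfl).2 t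
  rw [pullSect_comb] at ht
  have h0 := ((hm.pullback q hqc) _ le_rfl).1 (ht.trans (comb_zero _).symm)
  choose b hb using fun j => hq.ker hV (c j) (congrFun h0 j)
  exact ⟨comb E m le_rfl b, by rw [← comb_smul, funext hb]⟩

theorem IsGen.ker_pullSect (hq : IsGen f ϖ q) {t : Γ(E, V)} (ht : OmegaSh.pullSect q E V t = 0) :
    ∃ k, pw f ϖ V k • t = 0 := by
  obtain ⟨c, rfl⟩ := (hm V le_rfl).2 t
  rw [pullSect_comb] at ht
  have h0 := ((hm.pullback q hqc) _ le_rfl).1 (ht.trans (comb_zero _).symm)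
  choose k hk using fun j => hq.ker hV (c j) (congrFun h0 j)
  refine ⟨Finset.univ.sup k, ?_⟩
  rw [← comb_smul]
  simp only [comb]
  refine Finset.sum_eq_zero fun j _ => ?_
  rw [pw, ← Nat.sub_add_cancel (Finset.le_sup (f := k) (Finset.mem_univ j)), pow_add, mul_assoc,
    show scal f V ϖ ^ k j * c j = 0 from hk j, mul_zero, zero_smul]

theorem IsGen.surj_pullSect (hq : IsGen f ϖ q) (σ : Γ((Scheme.Modules.pullback q).obj E, q ⁻¹ᵁ V)) :
    ∃ (k : ℕ) (t : Γ(E, V)), OmegaSh.pullSect q E V t = pw (q ≫ f) ϖ (q ⁻¹ᵁ V) k • σ := by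
  obtain ⟨d, rfl⟩ := ((hm.pullback q hqc) _ le_rfl).2 σ
  choose k b hb using fun j => hq.surj hV (d j)
  refine ⟨Finset.univ.sup k, comb E m le_rfl fun j => pw f ϖ V (Finset.univ.sup k - k j) * b j, ?_⟩
  rw [pullSect_comb, comb, comb, Finset.smul_sum]
  refine Finset.sum_congr rfl fun j _ => ?_
  rw [← mul_smul, map_mul (q.app V).hom, hb, app_pw, ← mul_assoc, ← pw_add,
    Nat.sub_add_cancel (Finset.le_sup (f := k) (Finset.mem_univ j))]

end Groth.Agent.H8Props.FreeOverDVR
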