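import Groth.Agent.H8Props.FreeOverDVR.Algebra
import Groth.Agent.H8Props.FreeOverDVR.Cech
import Groth.Agent.H8Props.FreeOverDVR.Coords

/-!
# Global sections restricting to a multiple of a basis modulo a power of the uniformizer
-/

set_option autoImplicit false
set_option linter.style.haveILetI false
set_option linter.unusedSectionVars false

universe u

open AlgebraicGeometry CategoryTheory CategoryTheory.Limits TopologicalSpace Opposite

namespace Groth.Agent.H8Props.FreeOverDVR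

open Groth.Agent.LeadFF Groth.Agent.H28Pinch

variable {R : Type u} [CommRing R] {X : Scheme.{u}} (f : X ⟶ Spec (CommRingCat.of R)) (ϖ : R)

theorem rs_rs {F : X.Modules} {U V W : X.Opens} (h : V ≤ U) (h' : W ≤ V) (t : Γ(F, U)) :
    rs F h' (rs F h t) = rs F (h'.trans h) t := H10Coh.mres_mres F h h' t

theorem pullSect_rs {X' : Scheme.{u}} (q : X' ⟶ X) (F : X.Modules) {V W : X.Opens} (h : W ≤ V) (t : Γ(F, V)) :
    OmegaSh.pullSect q F W (rs F h t) =
      rs ((Scheme.Modules.pullback q).obj F) (q.preimage_mono h) (OmegaSh.pullSect q F V t) :=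
  OmegaSh.pullSect_map q F h t

theorem rs_zero (F : X.Modules) {V W : X.Opens} (h : W ≤ V) : rs F h (0 : Γ(F, V)) = 0 := map_zero _

theorem rs_sub (F : X.Modules) {V W : X.Opens} (h : W ≤ V) (s t : Γ(F, V)) :
    rs F h (s - t) = rs F h s - rs F h t := map_sub _ _ _

/-- An affine neighbourhood with a basis. -/
theorem exists_chart {E : X.Modules} (hE : FlatMod.IsFinLocFree E) (x : X) :
    ∃ (W : X.Opens) (r : ℕ) (m : Fin r → Γ(E, W)), x ∈ W ∧ IsAffineOpen W ∧ IsBasisOn E m := by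
  obtain ⟨U, r, hxU, ⟨e⟩⟩ := hE x
  obtain ⟨m, hm⟩ := exists_isBasisOn_of_chart E e
  obtain ⟨W, hW, hxW, hWU⟩ := exists_isAffineOpen_mem_and_subset (U := U) hxU
  exact ⟨W, r, _, hxW, hW, hm.mono hWU⟩

theorem isAffineOpen_inf [IsSeparated f] {U V : X.Opens} (hU : IsAffineOpen U) (hV : IsAffineOpen V) :
    IsAffineOpen (U ⊓ V) := by
  haveI : IsSeparated (terminal.from X) := by
    rw [← terminal.comp_from f]
    infer_instance
  exact hU.inf hV

variable [IsDomain R] [IsDiscreteValuationRing R] (hϖ : Irreducible ϖ) [IsProper f]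

include hϖ in
theorem exists_lift {a c n r : ℕ} (hn : 2 * a + c + 1 ≤ n) (hO : TorBO f ϖ a)
    {X₁ : Scheme.{u}} {q : X₁ ⟶ X} (hq : IsModPow f ϖ q n)
    (hc : ∀ σ : Γ(X₁, ⊤), ∃ s : Γ(X, ⊤), q.appTop s = pw (q ≫ f) ϖ ⊤ c * σ)
    {X₂ : Scheme.{u}} {p : X₂ ⟶ X} (hp : IsGen f ϖ p) {E : X.Modules} (hE : FlatMod.IsFinLocFree E)
    {ε : Fin r → Γ((Scheme.Modules.pullback q).obj E, ⊤)} (hε : IsBasisOn _ ε)
    {δ : Fin r → Γ((Scheme.Modules.pullback p).obj E, ⊤)} (hδ : IsBasisOn _ δ) (j : Fin r) :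
    ∃ s : Γ(E, ⊤), OmegaSh.pullSect q E ⊤ s = pw (q ≫ f) ϖ ⊤ (2 * a + c) • ε j := by
  haveI : IsLocallyNoetherian X := LocallyOfFiniteType.isLocallyNoetherian f
  haveI : CompactSpace X := QuasiCompact.compactSpace_of_compactSpace f
  have hqc : Coh.IsQCoh E := H8Props.FinLocFree.isQCoh_of_isFinLocFree E hE
  have hT := torB_of_isFinLocFree f ϖ hO E hE
  let O := Coh.structureModule X
  haveI : Module.Finite R (Sec f E) := finite_sec f E
    ((H10Coh.isCoh_iff_finite_sections _).2 ⟨hqc, fun U hU =>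
      haveI := H8Props.FinLocFree.finitePresentation_sections E (H8Props.FinLocFree.isFP_of_isFinLocFree E hE) hU; inferInstance⟩)
  haveI : Module.Finite R (Sec f O) := finite_sec f O (H10Coh.isCoh_structureModule' X)
  let red : (Fin r → Sec f O) →ₗ[R] Sec (q ≫ f) ((Scheme.Modules.pullback q).obj E) :=
    combL (q ≫ f) ε ∘ₗ (redL f q).compLeft (Fin r)
  let redK : (Fin r → Sec f O) →ₗ[R] Sec (p ≫ f) ((Scheme.Modules.pullback p).obj E) :=
    combL (p ≫ f) δ ∘ₗ (redL f p).compLeft (Fin r)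
  have tM : ∀ (m : Sec f E) (k : ℕ), ϖ ^ k • m = 0 → ϖ ^ a • m = 0 := fun m k h =>
    (pow_smul_sec f ϖ E a m).trans (hT ⊤ _ k ((pow_smul_sec f ϖ E k m).symm.trans h))
  have tO : ∀ (m : Sec f O) (k : ℕ), ϖ ^ k • m = 0 → ϖ ^ a • m = 0 := fun m k h =>
    (pow_smul_sec f ϖ O a m).trans
      (torB_structureModule f ϖ hO ⊤ _ k ((pow_smul_sec f ϖ O k m).symm.trans h))
  -- reductions of restrictions
  have hpull : ∀ (m : Sec f E) {W : X.Opens}, OmegaSh.pullSect q E W (rs E le_top (show Γ(E, ⊤) from m)) =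
      rs _ (q.preimage_mono le_top) (show Γ((Scheme.Modules.pullback q).obj E, q ⁻¹ᵁ ⊤) from pullL f q E m) :=
    fun m W => pullSect_rs q E le_top _
  refine (exists_preimage hϖ red (pullL f q E) redK (pullL f p E) hn tM
    (fun l k h => funext fun i => tO (l i) k (congrFun h i)) ?_ ?_ ?_ ?_ ?_ ?_ (Pi.single j
      (show Sec f O from (1 : Γ(X, ⊤))))).elim fun m hm => ?_
  · -- torsion free on the generic fibre
    intro x k h
    exact (hp.unit ⊤ k).smul_eq_zero.1 ((pow_smul_sec (p ≫ f) ϖ _ k x).symm.trans h)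
  · -- the kernel of the reduction
    intro m hm
    obtain ⟨g, hg⟩ := exists_div f ϖ hT n (show Γ(E, ⊤) from m) fun x => by
      obtain ⟨W, s, b, hxW, hW, hb⟩ := exists_chart hE x
      obtain ⟨w, hw⟩ := hq.ker_pullSect hqc hW hb (t := rs E le_top (show Γ(E, ⊤) from m)) (by
        rw [hpull, hm]
        exact map_zero _)
      exact ⟨W, hxW, w, hw⟩
    exact ⟨g, (pow_smul_sec f ϖ E n g).trans (hg.trans (pow_smul_sec f ϖ E a m).symm)⟩
  · -- lifting up to a power
    intro g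
    obtain ⟨d, rfl⟩ := (bijective_combL (q ≫ f) hε).2 g
    choose s hs using fun i => hc (show Γ(X₁, ⊤) from d i)
    refine ⟨fun i => s i, ?_⟩
    rw [← map_smul (combL (q ≫ f) ε)]
    refine congrArg (combL (q ≫ f) ε) (funext fun i => ?_)
    exact (hs i).trans (pow_smul_sec (q ≫ f) ϖ (Coh.structureModule X₁) c (d i)).symm
  · -- division
    intro m g e he hmg
    obtain ⟨g', hg'⟩ := exists_div f ϖ hT (a + e) (pw f ϖ ⊤ a • (show Γ(E, ⊤) from m)) fun x => by
      obtain ⟨W, s, b, hxW, hW, hb⟩ := exists_chart hE x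
      obtain ⟨t, ht⟩ := hq.surj_pullSect hqc hW hb
        (rs _ (q.preimage_mono le_top) (show Γ((Scheme.Modules.pullback q).obj E, q ⁻¹ᵁ ⊤) from g))
      obtain ⟨w, hw⟩ := hq.ker_pullSect hqc hW hb
        (t := pw f ϖ W (a + c) • rs E le_top (show Γ(E, ⊤) from m) - pw f ϖ W (a + c + e) • t) (by
          rw [map_sub, OmegaSh.pullSect_smul, OmegaSh.pullSect_smul, hpull, ht, app_pw, app_pw, sub_eq_zero,
            ← rs_pw_smul, ← rs_pw_smul]
          refine congrArg _ ?_
          refine Eq.trans ?_ ((congrArg (fun z : Sec (q ≫ f) ((Scheme.Modules.pullback q).obj E) => z)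
            hmg).trans (pow_smul_sec (q ≫ f) ϖ _ (a + c + e) g))
          exact ((pow_smul_sec (q ≫ f) ϖ _ (a + c) (pullL f q E m)).symm.trans (map_smul (pullL f q E) _ m).symm))
      refine ⟨W, hxW, t + pw f ϖ W (n - (a + c + e)) • w, ?_⟩
      rw [rs_pw_smul, pw_add_smul, smul_add, smul_add, ← sub_eq_zero, sub_add_eq_sub_sub]
      have h0 := hT W (rs E le_top (show Γ(E, ⊤) from m) - pw f ϖ W e • t - pw f ϖ W e • pw f ϖ W (n - (a + c + e)) • w)
        (a + c) (by
          rw [smul_sub, smul_sub, ← pw_add_smul, hw, ← pw_add_smul, ← pw_add_smul,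
            show a + c + e + (n - (a + c + e)) = n by omega, sub_self])
      rwa [smul_sub, smul_sub] at h0
    refine ⟨g', (pow_smul_sec f ϖ E _ g').trans (hg'.trans ?_)⟩
    rw [← pw_add_smul, ← two_mul]
    exact (pow_smul_sec f ϖ E _ m).symm
  · -- sections from the generic fibre
    intro l
    let σ : Γ((Scheme.Modules.pullback p).obj E, p ⁻¹ᵁ ⊤) := redK l
    choose W s b hxW hW hb using exists_chart hE
    obtain ⟨I, hI⟩ := isCompact_univ.elim_finite_subcover (fun x : X => (W x : Set X)) (fun x => (W x).isOpen)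
      (fun x _ => Set.mem_iUnion.2 ⟨x, hxW x⟩)
    choose k t ht using fun x : I => hp.surj_pullSect hqc (hW x.1) (hb x.1)
      (rs _ (p.preimage_mono le_top) σ)
    let K := Finset.univ.sup k
    have ht' : ∀ x : I, OmegaSh.pullSect p E (W x.1) (pw f ϖ _ (K - k x) • t x) =
        rs _ (p.preimage_mono le_top) (pw (p ≫ f) ϖ (p ⁻¹ᵁ ⊤) K • σ) := fun x => by
      rw [OmegaSh.pullSect_smul, ht, app_pw, rs_pw_smul, ← pw_add_smul,
        Nat.sub_add_cancel (Finset.le_sup (f := k) (Finset.mem_univ x))]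
    have hcov : (⊤ : X.Opens) ≤ iSup fun x : I => W x.1 := fun y _ => by
      obtain ⟨x, hxI, hy⟩ := Set.mem_iUnion₂.1 (hI (Set.mem_univ y))
      exact Opens.mem_iSup.2 ⟨⟨x, hxI⟩, hy⟩
    obtain ⟨g, hg⟩ := exists_glue f ϖ hT (fun x : I => W x.1) hcov
      (fun x => pw f ϖ _ (K - k x) • t x) fun x y =>
        hp.ker_pullSect hqc (isAffineOpen_inf f (hW x.1) (hW y.1)) ((hb x.1).mono inf_le_left) (by
          rw [map_sub, pullSect_rs, pullSect_rs, ht', ht', rs_rs, rs_rs, sub_self])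
    refine ⟨K + a, g, ?_⟩
    refine Eq.trans ?_ (pow_smul_sec (p ≫ f) ϖ _ (K + a) (redK l)).symm
    show OmegaSh.pullSect p E ⊤ g = _
    refine eq_of_cover (fun x : I => p ⁻¹ᵁ W x.1) (fun y _ => ?_) fun x => ?_
    · obtain ⟨x, hx⟩ := Opens.mem_iSup.1 (hcov (Opens.mem_top (p y)))
      exact Opens.mem_iSup.2 ⟨x, hx⟩
    · refine ((pullSect_rs p E le_top g).symm.trans (congrArg (OmegaSh.pullSect p E _) (hg x))).trans ?_
      rw [OmegaSh.pullSect_smul, ht', app_pw, ← rs_pw_smul, ← pw_add_smul, add_comm a K]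
      rfl
  · -- kernel of the generic reduction
    intro l hl
    refine ⟨a, funext fun i => (pow_smul_sec f ϖ O a (l i)).trans ?_⟩
    have h0 : p.appTop (show Γ(X, ⊤) from l i) = 0 := congrFun
      ((bijective_combL (p ≫ f) hδ).1 (hl.trans (map_zero (combL (p ≫ f) δ)).symm)) i
    choose W hW hxW hWle using fun x : X =>
      exists_isAffineOpen_mem_and_subset (U := (⊤ : X.Opens)) (x := x) (Opens.mem_top x)
    refine eq_of_cover (F := O) W (fun x _ => Opens.mem_iSup.2 ⟨x, hxW x⟩) fun x => ?_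
    rw [rs_pw_smul]
    refine Eq.trans ?_ (rs_zero O _).symm
    obtain ⟨k, hk⟩ := hp.ker (hW x) (X.presheaf.map (homOfLE le_top).op (show Γ(X, ⊤) from l i)) (by
      refine (ConcreteCategory.congr_hom (Scheme.Hom.naturality p (homOfLE (le_top : W x ≤ ⊤)).op) _).trans ?_
      show X₂.presheaf.map _ (p.appTop _) = 0
      rw [h0, map_zero])
    exact hO _ _ k hk
  · refine ⟨m, hm.trans ?_⟩
    refine (pow_smul_sec (q ≫ f) ϖ _ _ _).trans (congrArg _ ?_)
    show (∑ i, (show Γ(X₁, ⊤) from q.appTop (show Γ(X, ⊤) from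
      (Pi.single j (show Sec f O from (1 : Γ(X, ⊤))) : Fin r → Sec f O) i)) • ε i) = ε j
    rw [Finset.sum_eq_single j]
    · rw [Pi.single_eq_same]
      show q.appTop (1 : Γ(X, ⊤)) • ε j = ε j
      rw [map_one, one_smul]
    · intro i _ hi
      rw [Pi.single_eq_of_ne hi]
      show q.appTop (0 : Γ(X, ⊤)) • ε i = 0
      rw [map_zero, zero_smul]
    · simp

end Groth.Agent.H8Props.FreeOverDVR
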