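import Groth.Agent.H8Props.FreeOverDVR.Lift
import Groth.Agent.LeadStrat.VB.Bases
import Groth.Agent.H28Pinch.GlueModule

/-!
# A finite locally free module which is free on the generic fibre and modulo a high power of the uniformizer
-/

set_option autoImplicit false
set_option linter.style.haveILetI false
set_option linter.unusedSectionVars false

universe u

open AlgebraicGeometry CategoryTheory CategoryTheory.Limits TopologicalSpace Opposite

namespace Groth.Agent.H8Props.FreeOverDVR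

open Groth.Agent.LeadFF Groth.Agent.H28Pinch

variable {R : Type u} [CommRing R] {X : Scheme.{u}}

/-- The global basis of a pullback that is free. -/
theorem exists_basis_of_iso {Y : Scheme.{u}} {G : Y.Modules} {r : ℕ} (e : G ≅ FlatMod.freeMod Y r) :
    ∃ ε : Fin r → Γ(G, ⊤), IsBasisOn G ε :=
  ⟨_, (LeadStrat.VB.isBasisOn_gen Y r ⊤).map_iso e.symm⟩

/-- The size of a global basis of a pullback is the local rank. -/
theorem rank_eq {Y : Scheme.{u}} (q : Y ⟶ X) {E : X.Modules} (hqc : Coh.IsQCoh E) {r s : ℕ}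
    {ε : Fin r → Γ((Scheme.Modules.pullback q).obj E, ⊤)} (hε : IsBasisOn _ ε) {W : X.Opens}
    {m : Fin s → Γ(E, W)} (hm : IsBasisOn E m) (y : Y) (hy : q y ∈ W) : r = s :=
  LeadStrat.VB.rank_unique (hε.mono (le_top : q ⁻¹ᵁ W ≤ ⊤)) (hm.pullback q hqc) (show y ∈ q ⁻¹ᵁ W from hy)

variable [IsDomain R] [IsDiscreteValuationRing R] (f : X ⟶ Spec (CommRingCat.of R)) {ϖ : R} (hϖ : Irreducible ϖ)
  [IsProper f]

/-- Every point specializes to one over the closed point. -/
theorem exists_specializes (x : X) :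
    ∃ x₀ : X, x ⤳ x₀ ∧ f x₀ = IsLocalRing.closedPoint R := by
  have hC : IsClosed (f '' closure {x}) := f.isClosedMap _ isClosed_closure
  obtain ⟨x₀, hx₀, hfx⟩ :=
    (IsLocalRing.specializes_closedPoint (f x)).mem_closed hC ⟨x, subset_closure rfl, rfl⟩
  exact ⟨x₀, specializes_iff_mem_closure.2 hx₀, hfx⟩

include hϖ in
theorem mem_range_of_closedPoint {n : ℕ} (hn : n ≠ 0) {x : X} (hx : f x = IsLocalRing.closedPoint R) :
    x ∈ Set.range (pullback.fst f (Spec.map (CommRingCat.ofHom (Ideal.Quotient.mk (Ideal.span {ϖ} ^ n))))) := by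
  rw [Scheme.Pullback.range_fst]
  show f x ∈ Set.range (PrimeSpectrum.comap (Ideal.Quotient.mk (Ideal.span {ϖ} ^ n)))
  rw [hx, range_comap_of_surjective _ _ Ideal.Quotient.mk_surjective, Ideal.mk_ker]
  refine (PrimeSpectrum.mem_zeroLocus _ _).2 fun r hr => ?_
  show r ∈ IsLocalRing.maximalIdeal R
  rw [hϖ.maximalIdeal_eq]
  exact Ideal.pow_le_self hn hr

include hϖ in
/-- A module with sections restricting to a basis near the special fibre is free. -/
theorem nonempty_iso_free {n r : ℕ} {X₁ : Scheme.{u}} {q : X₁ ⟶ X} (hq : IsModPow f ϖ q n)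
    (hrange : ∀ x : X, f x = IsLocalRing.closedPoint R → x ∈ Set.range q) {E : X.Modules}
    (hE : FlatMod.IsFinLocFree E) {ε : Fin r → Γ((Scheme.Modules.pullback q).obj E, ⊤)} (hε : IsBasisOn _ ε)
    {l : ℕ} (hl : l ≠ 0) (u : Fin r → Γ(E, ⊤))
    (hu : ∀ (j : Fin r) (x : X), ∃ (O : X.Opens) (_ : x ∈ O)
      (η : Γ((Scheme.Modules.pullback q).obj E, q ⁻¹ᵁ O)), OmegaSh.pullSect q E O (rs E le_top (u j)) =
        rs _ le_top (ε j) + pw (q ≫ f) ϖ (q ⁻¹ᵁ O) l • η) :
    Nonempty (E ≅ FlatMod.freeMod X r) := by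
  have hqc : Coh.IsQCoh E := H8Props.FinLocFree.isQCoh_of_isFinLocFree E hE
  let Good : Set X := {x | ∃ U : X.Opens, x ∈ U ∧ IsBasisOn E (fun j => rs E (le_top : U ≤ ⊤) (u j))}
  have hopen : IsOpen Good := isOpen_iff_forall_mem_open.2 fun x ⟨U, hx, hU⟩ =>
    ⟨U, fun y hy => ⟨U, hy, hU⟩, U.isOpen, hx⟩
  have hnear : ∀ x : X, f x = IsLocalRing.closedPoint R → x ∈ Good := by
    intro x hx
    obtain ⟨y, rfl⟩ := hrange x hx
    obtain ⟨U, s, b, hxU, -, hb⟩ := exists_chart hE (q y)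
    obtain rfl := rank_eq q hqc hε hb y hxU
    choose O hxO η hη using fun j => hu j (q y)
    let V : X.Opens := U ⊓ ⨅ j, O j
    have hxV : q y ∈ V := ⟨hxU, by rw [Opens.coe_iInf]; exact Set.mem_iInter.2 hxO⟩
    have hVO : ∀ j, V ≤ O j := fun j => inf_le_right.trans (iInf_le _ j)
    let m := fun j => rs E (inf_le_left : V ≤ U) (b j)
    have hm : IsBasisOn E m := hb.mono inf_le_left
    let qm := fun j => OmegaSh.pullSect q E V (m j)
    have hqm : IsBasisOn _ qm := hm.pullback q hqc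
    choose A hA using fun j => (hm V le_rfl).2 (rs E (le_top : V ≤ ⊤) (u j))
    choose B hB using fun j => (hqm _ le_rfl).2 (rs _ (le_top : q ⁻¹ᵁ V ≤ ⊤) (ε j))
    choose C hC using fun j => (hqm _ le_rfl).2 (rs _ (q.preimage_mono (hVO j)) (η j))
    let π := pw (q ≫ f) ϖ (q ⁻¹ᵁ V) l
    have hsum : ∀ {Y : Scheme.{u}} {F : Y.Modules} {W : Y.Opens} (e : Fin r → Γ(F, W)) (c : Fin r → Γ(Y, W)),
        comb F e le_rfl c = ∑ k, c k • e k := fun e c =>
      Finset.sum_congr rfl fun j _ => by rw [H10Coh.mres_self]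
    have hAB : ∀ j k, q.app V (A j k) = B j k + π * C j k := by
      intro j k
      refine congrFun ((hqm _ le_rfl).1 (a₁ := fun k => q.app V (A j k)) (a₂ := fun k => B j k + π * C j k) ?_) k
      rw [← pullSect_comb, hA, ← rs_rs (le_top : O j ≤ ⊤) (hVO j) (u j), pullSect_rs, hη, rs, map_add,
        ← rs, ← rs, rs_rs, rs_pw_smul, ← hB, ← hC]
      simp only [hsum, π, add_smul, mul_smul, Finset.sum_add_distrib, Finset.smul_sum]
    have hBunit : IsUnit (Matrix.of B).det :=
      isUnit_det_of_isBasisOn (hε.mono le_top) (Matrix.of B) fun j => (hB j).symm.trans (hsum qm (B j))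
    have hnil : IsNilpotent π := by
      refine ⟨n, ?_⟩
      show pw (q ≫ f) ϖ _ l ^ n = 0
      rw [pw, ← pow_mul, ← Nat.sub_add_cancel (Nat.le_mul_of_pos_left n (Nat.pos_of_ne_zero hl)), pow_add,
        show scal (q ≫ f) (q ⁻¹ᵁ V) ϖ ^ n = 0 from hq.pw_eq_zero _, mul_zero]
    let d := (Matrix.of A).det
    have hd : IsUnit (q.app V d) := by
      have e1 : q.app V d = ((Matrix.of A).map (q.app V).hom).det := RingHom.map_det (q.app V).hom _
      have e2 : Ideal.Quotient.mk (Ideal.span {π}) (q.app V d) =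
          Ideal.Quotient.mk (Ideal.span {π}) (Matrix.of B).det := by
        rw [e1, RingHom.map_det, RingHom.map_det]
        refine congrArg Matrix.det (Matrix.ext fun j k => ?_)
        show Ideal.Quotient.mk _ (q.app V (A j k)) = Ideal.Quotient.mk _ (B j k)
        rw [hAB, map_add, map_mul, Ideal.Quotient.eq_zero_iff_mem.2 (Ideal.mem_span_singleton_self π), zero_mul,
          add_zero]
      obtain ⟨z, hz⟩ := Ideal.mem_span_singleton.1 (Ideal.Quotient.eq.1 e2)
      rw [sub_eq_iff_eq_add.1 hz]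
      exact IsNilpotent.isUnit_add_right_of_commute (Commute.isNilpotent_mul_right (Commute.all _ _) hnil) hBunit
        (Commute.all _ _)
    refine ⟨X.basicOpen d, ?_, ?_⟩
    · show y ∈ q ⁻¹ᵁ X.basicOpen d
      rw [Scheme.preimage_basicOpen, X₁.basicOpen_of_isUnit hd]
      exact hxV
    · refine (hm.mono (X.basicOpen_le d)).of_matrix
        ((Matrix.of A).map (X.presheaf.map (homOfLE (X.basicOpen_le d)).op).hom) (fun j => ?_) ?_
      · rw [← rs_rs (le_top : V ≤ ⊤) (X.basicOpen_le d) (u j), ← hA, hsum, rs, map_sum]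
        exact Finset.sum_congr rfl fun k _ => Scheme.Modules.map_smul _ _ _ _
      · exact (RingHom.map_det (X.presheaf.map (homOfLE (X.basicOpen_le d)).op).hom (Matrix.of A)) ▸
          RingedSpace.isUnit_res_basicOpen X.toRingedSpace d
  have hall : ∀ x, x ∈ Good := by
    intro x
    obtain ⟨x₀, hsp, hx₀⟩ := exists_specializes f x
    exact hsp.mem_open hopen (hnear x₀ hx₀)
  refine LeadStrat.VB.nonempty_iso_free_of_top le_rfl (m := u) ?_
  refine LeadStrat.VB.isBasisOn_of_cover fun x _ => ?_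
  obtain ⟨U, hxU, hU⟩ := hall x
  exact ⟨U, le_top, hxU, hU⟩

include hϖ in
theorem exists_free {a c : ℕ} (hO : TorBO f ϖ a)
    (hc : ∀ (n : ℕ) {X' : Scheme.{u}} (q : X' ⟶ X), IsModPow f ϖ q n → ∀ σ : Γ(X', ⊤),
      ∃ s : Γ(X, ⊤), q.appTop s = pw (q ≫ f) ϖ ⊤ c * σ)
    {E : X.Modules} (hE : FlatMod.IsFinLocFree E) {r : ℕ} {X₁ : Scheme.{u}} {q : X₁ ⟶ X}
    (hq : IsModPow f ϖ q (3 * a + c + 1))
    (hrange : ∀ x : X, f x = IsLocalRing.closedPoint R → x ∈ Set.range q)
    {ε : Fin r → Γ((Scheme.Modules.pullback q).obj E, ⊤)} (hε : IsBasisOn _ ε)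
    {X₂ : Scheme.{u}} {p : X₂ ⟶ X} (hp : IsGen f ϖ p)
    {δ : Fin r → Γ((Scheme.Modules.pullback p).obj E, ⊤)} (hδ : IsBasisOn _ δ) :
    Nonempty (E ≅ FlatMod.freeMod X r) := by
  have hqc : Coh.IsQCoh E := H8Props.FinLocFree.isQCoh_of_isFinLocFree E hE
  have hT := torB_of_isFinLocFree f ϖ hO E hE
  choose s hs using fun j => exists_lift f ϖ hϖ (by omega) hO hq (hc _ q hq) hp hE hε hδ j
  choose W k b hxW hW hb using exists_chart hE
  choose t ht using fun (j : Fin r) (x : X) => hq.surj_pullSect hqc (hW x) (hb x) (rs _ le_top (ε j))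
  have key : ∀ (j : Fin r) (x : X), ∃ w : Γ(E, W x), rs E le_top (s j) - pw f ϖ _ (2 * a + c) • t j x =
      pw f ϖ _ (3 * a + c + 1) • w := fun j x => hq.ker_pullSect hqc (hW x) (hb x)
      (t := rs E le_top (s j) - pw f ϖ _ (2 * a + c) • t j x) (by
    rw [map_sub, pullSect_rs q E le_top (s j), hs j, OmegaSh.pullSect_smul, ht, app_pw, sub_eq_zero]
    exact rs_pw_smul (q ≫ f) ϖ _ _ (2 * a + c) (ε j))
  choose w hw using key
  let T := fun j x => t j x + pw f ϖ (W x) (a + 1) • w j x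
  have hglue : ∀ j, ∃ u : Γ(E, ⊤), ∀ x, rs E le_top u = T j x := by
    intro j
    have hsT : ∀ x, pw f ϖ (W x) (2 * a + c) • T j x = rs E le_top (s j) := fun x => by
      rw [smul_add, ← pw_add_smul, show 2 * a + c + (a + 1) = 3 * a + c + 1 by omega, ← hw]
      exact add_sub_cancel _ _
    obtain ⟨u, hu, -⟩ := TopCat.Sheaf.existsUnique_gluing' (H10Coh.sheafOf E) W ⊤ (fun _ => homOfLE le_top)
      (fun x _ => Opens.mem_iSup.2 ⟨x, hxW x⟩) (T j) fun x y => by
        show rs E inf_le_left (T j x) = rs E inf_le_right (T j y)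
        have h0 : pw f ϖ (W x ⊓ W y) (2 * a + c) • (rs E inf_le_left (T j x) - rs E inf_le_right (T j y)) = 0 := by
          rw [smul_sub, ← rs_pw_smul, ← rs_pw_smul, hsT, hsT, rs_rs, rs_rs, sub_self]
        obtain ⟨v, hv⟩ := hq.ker_pullSect hqc (isAffineOpen_inf f (hW x) (hW y)) ((hb x).mono inf_le_left)
          (t := rs E inf_le_left (t j x) - rs E inf_le_right (t j y)) (by
            rw [map_sub, pullSect_rs, pullSect_rs, ht, ht, rs_rs, rs_rs, sub_self])
        let z := pw f ϖ (W x ⊓ W y) (2 * a + c) • v + rs E inf_le_left (w j x) - rs E inf_le_right (w j y)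
        have hz : rs E inf_le_left (T j x) - rs E inf_le_right (T j y) = pw f ϖ (W x ⊓ W y) (a + 1) • z := by
          simp only [T, z, rs, map_add]
          show rs E inf_le_left (t j x) + rs E inf_le_left (pw f ϖ (W x) (a + 1) • w j x) -
            (rs E inf_le_right (t j y) + rs E inf_le_right (pw f ϖ (W y) (a + 1) • w j y)) =
            pw f ϖ (W x ⊓ W y) (a + 1) •
              (pw f ϖ (W x ⊓ W y) (2 * a + c) • v + rs E inf_le_left (w j x) - rs E inf_le_right (w j y))
          rw [rs_pw_smul, rs_pw_smul, smul_sub, smul_add, ← pw_add_smul,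
            show a + 1 + (2 * a + c) = 3 * a + c + 1 by omega, ← hv]
          abel
        have h1 := hT _ z (2 * a + c + (a + 1)) (by rw [pw_add_smul, ← hz, h0])
        rw [← sub_eq_zero, hz, show a + 1 = 1 + a from Nat.add_comm _ _, pw_add_smul, h1, smul_zero]
    exact ⟨u, hu⟩
  choose u hu using hglue
  refine nonempty_iso_free f hϖ hq hrange hE hε (l := a + 1) (by omega) u fun j x =>
    ⟨W x, hxW x, OmegaSh.pullSect q E (W x) (w j x), ?_⟩
  rw [hu]
  show OmegaSh.pullSect q E (W x) (t j x + _ • w j x) = _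
  rw [map_add, ht, OmegaSh.pullSect_smul, app_pw]

end Groth.Agent.H8Props.FreeOverDVR
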