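import Groth.Agent.H8Props.FreeOverDVR.Sections
import Groth.Agent.LeadBC.ThickTriv
import Mathlib.RingTheory.Localization.FractionRing
import Mathlib.RingTheory.Localization.BaseChange
import Mathlib.RingTheory.DiscreteValuationRing.Basic

/-!
# Functions on the restrictions modulo a power of the uniformizer and to the generic fibre
-/

set_option autoImplicit false
set_option linter.style.haveILetI false
set_option linter.unusedSectionVars false

universe u

open AlgebraicGeometry CategoryTheory CategoryTheory.Limits TopologicalSpace Opposite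

namespace Groth.Agent.H8Props.FreeOverDVR

open Groth.Agent.LeadFF

variable {R : Type u} [CommRing R] {X X' : Scheme.{u}} (f : X ⟶ Spec (CommRingCat.of R)) (ϖ : R) (q : X' ⟶ X)

/-- On affine opens, `q` is reduction modulo `ϖ ^ n`. -/
structure IsModPow (n : ℕ) : Prop where
  surj : ∀ {V : X.Opens}, IsAffineOpen V → Function.Surjective (q.app V)
  ker : ∀ {V : X.Opens}, IsAffineOpen V → ∀ b : Γ(X, V), q.app V b = 0 → ∃ b', b = pw f ϖ V n * b'
  isAffineHom : IsAffineHom q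
  pw_eq_zero : ∀ W : X'.Opens, pw (q ≫ f) ϖ W n = 0

/-- On affine opens, `q` inverts `ϖ`. -/
structure IsGen : Prop where
  ker : ∀ {V : X.Opens}, IsAffineOpen V → ∀ b : Γ(X, V), q.app V b = 0 → ∃ k, pw f ϖ V k * b = 0
  surj : ∀ {V : X.Opens}, IsAffineOpen V → ∀ y : Γ(X', q ⁻¹ᵁ V), ∃ (k : ℕ) (b : Γ(X, V)),
    q.app V b = pw (q ≫ f) ϖ (q ⁻¹ᵁ V) k * y
  unit : ∀ (W : X'.Opens) (k : ℕ), IsUnit (pw (q ≫ f) ϖ W k)
  isAffineHom : IsAffineHom q

theorem isModPow_pullback (n : ℕ) :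
    IsModPow f ϖ (pullback.fst f (Spec.map (CommRingCat.ofHom (Ideal.Quotient.mk (Ideal.span {ϖ} ^ n))))) n := by
  letI : X.Over (Spec (CommRingCat.of R)) := ⟨f⟩
  have hsq : IsPullback
      (pullback.fst f (Spec.map (CommRingCat.ofHom (Ideal.Quotient.mk (Ideal.span {ϖ} ^ n)))))
      (pullback.snd f (Spec.map (CommRingCat.ofHom (Ideal.Quotient.mk (Ideal.span {ϖ} ^ n)))))
      (X ↘ Spec (CommRingCat.of R)) (Spec.map (CommRingCat.ofHom (Ideal.Quotient.mk (Ideal.span {ϖ} ^ n)))) :=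
    IsPullback.of_hasPullback _ _
  refine ⟨fun hV => (LeadBC.ThickTriv.mem_ker hsq hV).1, fun {V} hV b hb => ?_, isAffineHom_fst hsq, fun W => ?_⟩
  swap
  · have h := app_scal hsq ⊤ (ϖ ^ n)
    rw [Ideal.Quotient.eq_zero_iff_mem.2 (Ideal.pow_mem_pow (Ideal.mem_span_singleton_self ϖ) n), map_zero,
      app_scal_comp, map_pow] at h
    rw [← res_pw _ ϖ (le_top : W ≤ ⊤) n, pw]
    exact (congrArg _ h).trans (map_zero _)
  have h := (LeadBC.ThickTriv.mem_ker hsq hV).2 b hb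
  rw [Ideal.span_singleton_pow, Ideal.map_span, Set.image_singleton, Ideal.mem_span_singleton, map_pow] at h
  exact h

theorem isGen_of_isPullback [IsDomain R] [IsDiscreteValuationRing R] (hϖ : Irreducible ϖ)
    {g' : X' ⟶ Spec (CommRingCat.of (FractionRing R))}
    (hsq : IsPullback q g' f (Spec.map (CommRingCat.ofHom (algebraMap R (FractionRing R))))) :
    IsGen f ϖ q := by
  let K := FractionRing R
  have hunit : ∀ (W : X'.Opens) (r : R), r ≠ 0 →
      IsUnit (scal (q ≫ f) W r) := by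
    intro W r hr
    have h1 : scal g' ⊤ (algebraMap R K r) = scal (q ≫ f) ⊤ r := by
      have h := app_scal hsq ⊤ r
      rw [app_scal_comp] at h
      exact h.symm
    have h2 := ((IsLocalization.map_units K (⟨r, mem_nonZeroDivisors_of_ne_zero hr⟩ : nonZeroDivisors R)).map
      (scal g' ⊤)).map (X'.presheaf.map
        (homOfLE (le_top : W ≤ ⊤)).op).hom
    rw [h1, map_scal] at h2
    exact h2
  have hloc : ∀ {V : X.Opens} (_ : IsAffineOpen V), letI := (scal f V).toAlgebra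
      letI := (q.app V).hom.toAlgebra
      IsLocalization (Algebra.algebraMapSubmonoid Γ(X, V) (nonZeroDivisors R)) Γ(X', q ⁻¹ᵁ V) := by
    intro V hV
    letI : Algebra R Γ(X, V) := (scal f V).toAlgebra
    letI : Algebra Γ(X, V) Γ(X', q ⁻¹ᵁ V) := (q.app V).hom.toAlgebra
    letI : Algebra K Γ(X', q ⁻¹ᵁ V) := (scal g' (q ⁻¹ᵁ V)).toAlgebra
    letI : Algebra R Γ(X', q ⁻¹ᵁ V) := ((scal g' (q ⁻¹ᵁ V)).comp (algebraMap R K)).toAlgebra
    haveI : IsScalarTower R Γ(X, V) Γ(X', q ⁻¹ᵁ V) := .of_algebraMap_eq fun r => (app_scal hsq V r).symm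
    haveI : IsScalarTower R K Γ(X', q ⁻¹ᵁ V) := .of_algebraMap_eq fun _ => rfl
    exact (Algebra.isLocalization_iff_isPushout (nonZeroDivisors R) K).2
      (CommRingCat.isPushout_iff_isPushout.mp (by simpa using! isPushout_scal hsq hV))
  refine ⟨fun {V} hV b hb => ?_, fun {V} hV y => ?_, fun W k => ?_, isAffineHom_fst hsq⟩
  · letI : Algebra R Γ(X, V) := (scal f V).toAlgebra
    letI : Algebra Γ(X, V) Γ(X', q ⁻¹ᵁ V) := (q.app V).hom.toAlgebra
    haveI := hloc hV
    obtain ⟨⟨c, r, hr, rfl⟩, hc⟩ := (IsLocalization.eq_iff_exists (Algebra.algebraMapSubmonoid Γ(X, V)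
      (nonZeroDivisors R)) _).1 (show algebraMap Γ(X, V) Γ(X', q ⁻¹ᵁ V) b = algebraMap Γ(X, V) _ 0 from
        hb.trans (map_zero _).symm)
    obtain ⟨k, u, rfl⟩ := IsDiscreteValuationRing.eq_unit_mul_pow_irreducible (nonZeroDivisors.ne_zero hr) hϖ
    refine ⟨k, (u.isUnit.map (scal f V)).mul_right_eq_zero.1 ?_⟩
    rw [pw, ← mul_assoc, ← map_pow, ← map_mul]
    exact hc.trans (mul_zero _)
  · letI : Algebra R Γ(X, V) := (scal f V).toAlgebra
    letI : Algebra Γ(X, V) Γ(X', q ⁻¹ᵁ V) := (q.app V).hom.toAlgebra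
    haveI := hloc hV
    obtain ⟨⟨b, c, r, hr, rfl⟩, hc⟩ := IsLocalization.surj (Algebra.algebraMapSubmonoid Γ(X, V) (nonZeroDivisors R)) y
    obtain ⟨k, u, rfl⟩ := IsDiscreteValuationRing.eq_unit_mul_pow_irreducible (nonZeroDivisors.ne_zero hr) hϖ
    refine ⟨k, scal f V ↑u⁻¹ * b, ?_⟩
    have hc' : y * q.app V (scal f V (↑u * ϖ ^ k)) = q.app V b := hc
    rw [map_mul, ← hc', ← app_pw f ϖ q V k, map_mul, map_mul, map_pow, mul_comm y, ← mul_assoc, ← mul_assoc,
      ← map_mul (q.app V).hom (scal f V ↑u⁻¹), ← map_mul (scal f V), Units.inv_mul, map_one, map_one, one_mul]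
  · exact (hunit W ϖ hϖ.ne_zero).pow k

theorem isGen_pullback [IsDomain R] [IsDiscreteValuationRing R] (hϖ : Irreducible ϖ) :
    IsGen f ϖ (pullback.fst f (Spec.map (CommRingCat.ofHom (algebraMap R (FractionRing R))))) :=
  isGen_of_isPullback f ϖ _ hϖ (IsPullback.of_hasPullback _ _)

end Groth.Agent.H8Props.FreeOverDVR
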