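import Groth.Agent.H28Pinch.FreeBasis
import Groth.Agent.LeadFF.BaseChange
import Mathlib.RingTheory.Noetherian.Defs

/-!
# Multiplication by a function of the base on sections: bounded torsion, gluing and division
-/

set_option autoImplicit false
set_option linter.style.haveILetI false
set_option linter.unusedSectionVars false

universe u

open AlgebraicGeometry CategoryTheory CategoryTheory.Limits TopologicalSpace Opposite

namespace Groth.Agent.H8Props.FreeOverDVR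

open Groth.Agent.LeadFF Groth.Agent.H28Pinch

variable {R : Type u} [CommRing R] {X : Scheme.{u}} (f : X ⟶ Spec (CommRingCat.of R)) (ϖ : R)

/-- The function `ϖ ^ k` on `V`. -/
noncomputable abbrev pw (V : X.Opens) (k : ℕ) : Γ(X, V) := scal f V ϖ ^ k

/-- Restriction of sections. -/
noncomputable abbrev rs (F : X.Modules) {V W : X.Opens} (h : W ≤ V) (t : Γ(F, V)) : Γ(F, W) :=
  F.presheaf.map (homOfLE h).op t

theorem res_pw {V W : X.Opens} (h : W ≤ V) (k : ℕ) :
    X.presheaf.map (homOfLE h).op (pw f ϖ V k) = pw f ϖ W k := by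
  rw [pw, map_pow, map_scal]

theorem rs_pw_smul (F : X.Modules) {V W : X.Opens} (h : W ≤ V) (k : ℕ) (t : Γ(F, V)) :
    rs F h (pw f ϖ V k • t) = pw f ϖ W k • rs F h t := by
  rw [rs, Scheme.Modules.map_smul, res_pw]

theorem pw_add (V : X.Opens) (k l : ℕ) : pw f ϖ V (k + l) = pw f ϖ V k * pw f ϖ V l := pow_add _ _ _

theorem pw_add_smul (F : X.Modules) (V : X.Opens) (k l : ℕ) (t : Γ(F, V)) :
    pw f ϖ V (k + l) • t = pw f ϖ V k • pw f ϖ V l • t := by rw [pw_add, mul_smul]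

theorem app_scal_comp {X' : Scheme.{u}} (q : X' ⟶ X) (V : X.Opens) (r : R) :
    q.app V (scal f V r) = scal (q ≫ f) (q ⁻¹ᵁ V) r := by
  show q.app V (X.presheaf.map _ (glob f r)) = X'.presheaf.map _ ((q ≫ f).appTop _)
  rw [Scheme.Hom.comp_appTop, ← ConcreteCategory.comp_apply, Scheme.Hom.naturality]
  rfl

theorem app_pw {X' : Scheme.{u}} (q : X' ⟶ X) (V : X.Opens) (k : ℕ) :
    q.app V (pw f ϖ V k) = pw (q ≫ f) ϖ (q ⁻¹ᵁ V) k := by
  rw [pw, map_pow, app_scal_comp]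

/-- Torsion of sections is killed by `ϖ ^ a`. -/
def TorB (a : ℕ) (F : X.Modules) : Prop :=
  ∀ (V : X.Opens) (t : Γ(F, V)) (k : ℕ), pw f ϖ V k • t = 0 → pw f ϖ V a • t = 0

/-- Torsion of functions is killed by `ϖ ^ a`. -/
def TorBO (a : ℕ) : Prop :=
  ∀ (V : X.Opens) (t : Γ(X, V)) (k : ℕ), pw f ϖ V k * t = 0 → pw f ϖ V a * t = 0

theorem torB_structureModule {a : ℕ} (h : TorBO f ϖ a) : TorB f ϖ a (Coh.structureModule X) :=
  fun V t k ht => h V t k ht

theorem exists_bound_ring {B : Type u} [CommRing B] [IsNoetherianRing B] (π : B) :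
    ∃ a : ℕ, ∀ (k : ℕ) (x : B), π ^ k * x = 0 → π ^ a * x = 0 := by
  let g : ℕ →o Ideal B :=
    ⟨fun k => LinearMap.ker (LinearMap.mulLeft B (π ^ k)), fun k l hkl x hx => by
      rw [LinearMap.mem_ker, LinearMap.mulLeft_apply] at hx ⊢
      rw [← Nat.sub_add_cancel hkl, pow_add, mul_assoc, hx, mul_zero]⟩
  obtain ⟨a, ha⟩ := monotone_stabilizes_iff_noetherian.2 inferInstance g
  refine ⟨a, fun k x hx => ?_⟩
  have : x ∈ g (max a k) := g.2 (le_max_right a k) (show x ∈ LinearMap.ker (LinearMap.mulLeft B (π ^ k)) from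
    LinearMap.mem_ker.2 hx)
  rw [← ha _ (le_max_left a k)] at this
  exact LinearMap.mem_ker.1 this

theorem exists_torBO [CompactSpace X] [IsLocallyNoetherian X] : ∃ a : ℕ, TorBO f ϖ a := by
  obtain ⟨k, U, hU, -, hcov⟩ := H10Coh.exists_finite_affine_cover (W := (⊤ : X.Opens))
    (by simpa using isCompact_univ)
  choose a ha using fun j => haveI := IsLocallyNoetherian.component_noetherian ⟨U j, hU j⟩
    exists_bound_ring (scal f (U j) ϖ)
  refine ⟨Finset.univ.sup a, fun V t l ht => ?_⟩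
  choose j hj using fun x : V => Opens.mem_iSup.1 (hcov (Opens.mem_top x.1))
  choose g hgV hxg using fun x : V => (hU (j x)).exists_basicOpen_le x (hj x)
  refine TopCat.Sheaf.eq_of_locally_eq' X.sheaf (fun x => X.basicOpen (g x)) V (fun x => homOfLE (hgV x))
    (fun x hx => Opens.mem_iSup.2 ⟨⟨x, hx⟩, hxg ⟨x, hx⟩⟩) _ _ fun x => ?_
  show X.presheaf.map _ (pw f ϖ V _ * t) = X.presheaf.map _ 0
  rw [map_mul, map_zero, res_pw]
  haveI := (hU (j x)).isLocalization_basicOpen (g x)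
  letI := ((X.presheaf.map (homOfLE (X.basicOpen_le (g x))).op).hom).toAlgebra
  obtain ⟨⟨b, s⟩, hbs⟩ := IsLocalization.surj (Submonoid.powers (g x)) (X.presheaf.map (homOfLE (hgV x)).op t)
  have h0 : algebraMap Γ(X, U (j x)) Γ(X, X.basicOpen (g x)) (pw f ϖ (U (j x)) l * b) =
      algebraMap Γ(X, U (j x)) _ 0 := by
    rw [map_mul, map_zero, ← hbs, ← mul_assoc]
    have := congrArg (X.presheaf.map (homOfLE (hgV x)).op) ht
    rw [map_mul, map_zero, res_pw] at this
    rw [show algebraMap Γ(X, U (j x)) Γ(X, X.basicOpen (g x)) (pw f ϖ (U (j x)) l) = pw f ϖ _ l from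
      res_pw f ϖ _ l, this, zero_mul]
  obtain ⟨c, hc⟩ := (IsLocalization.eq_iff_exists (Submonoid.powers (g x)) _).1 h0
  rw [mul_zero, mul_left_comm] at hc
  have h2 := ha (j x) l _ hc
  have h3 : pw f ϖ (U (j x)) (Finset.univ.sup a) * (↑c * b) = 0 := by
    rw [pw, ← Nat.sub_add_cancel (Finset.le_sup (f := a) (Finset.mem_univ (j x))), pow_add, mul_assoc, h2,
      mul_zero]
  have h4 := congrArg (algebraMap Γ(X, U (j x)) Γ(X, X.basicOpen (g x))) h3
  rw [map_mul, map_mul, map_zero, ← hbs, show algebraMap Γ(X, U (j x)) Γ(X, X.basicOpen (g x))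
    (pw f ϖ (U (j x)) (Finset.univ.sup a)) = pw f ϖ _ _ from res_pw f ϖ _ _, mul_left_comm] at h4
  rw [(IsLocalization.map_units _ c).mul_right_eq_zero, ← mul_assoc] at h4
  exact (IsLocalization.map_units _ s).mul_left_eq_zero.1 h4

theorem torB_of_isFinLocFree {a : ℕ} (hO : TorBO f ϖ a) (F : X.Modules) (hF : FlatMod.IsFinLocFree F) :
    TorB f ϖ a F := by
  intro V t k ht
  choose U n hxU e using fun x : V => hF x.1
  choose m hm using fun x : V => exists_isBasisOn_of_chart F (e x).some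
  refine TopCat.Sheaf.eq_of_locally_eq' (H10Coh.sheafOf F) (fun x : V => V ⊓ U x) V (fun x => homOfLE inf_le_left)
    (fun x hx => Opens.mem_iSup.2 ⟨⟨x, hx⟩, hx, hxU ⟨x, hx⟩⟩) _ _ fun x => ?_
  show rs F inf_le_left (pw f ϖ V a • t) = rs F inf_le_left 0
  rw [rs_pw_smul]
  refine Eq.trans ?_ (map_zero (F.presheaf.map (homOfLE (inf_le_left : V ⊓ U x ≤ V)).op).hom).symm
  have hb := hm x _ (inf_le_right : V ⊓ U x ≤ U x)
  obtain ⟨c, hc⟩ := hb.2 (rs F inf_le_left t)
  have hsmul : ∀ (r : Γ(X, V ⊓ U x)), comb F (m x) inf_le_right (fun i => r * c i) =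
      r • comb F (m x) inf_le_right c := fun r => by
    rw [comb, comb, Finset.smul_sum]
    exact Finset.sum_congr rfl fun i _ => mul_smul _ _ _
  have h0 : (fun i => pw f ϖ (V ⊓ U x) k * c i) = 0 := hb.1 (by
    rw [hsmul, hc, ← rs_pw_smul f ϖ F inf_le_left k t, ht, rs, map_zero]
    simp [comb])
  have h1 : (fun i => pw f ϖ (V ⊓ U x) a * c i) = 0 := funext fun i => hO _ _ k (congrFun h0 i)
  show pw f ϖ (V ⊓ U x) a • rs F inf_le_left t = 0
  rw [← hc, ← hsmul, h1]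
  simp [comb]

variable {a : ℕ} {F : X.Modules} (hT : TorB f ϖ a F)

include hT in
/-- Local sections that agree up to torsion glue after multiplication by `ϖ ^ a`. -/
theorem exists_glue {ι : Type u} (W : ι → X.Opens) (hcov : (⊤ : X.Opens) ≤ iSup W) (t : ∀ i, Γ(F, W i))
    (ht : ∀ i j, ∃ k, pw f ϖ (W i ⊓ W j) k • (rs F inf_le_left (t i) - rs F inf_le_right (t j)) = 0) :
    ∃ g : Γ(F, ⊤), ∀ i, rs F le_top g = pw f ϖ (W i) a • t i := by
  obtain ⟨g, hg, -⟩ := TopCat.Sheaf.existsUnique_gluing' (H10Coh.sheafOf F) W ⊤ (fun i => homOfLE le_top) hcov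
    (fun i => pw f ϖ (W i) a • t i) fun i j => by
      show rs F inf_le_left (pw f ϖ (W i) a • t i) = rs F inf_le_right (pw f ϖ (W j) a • t j)
      obtain ⟨k, hk⟩ := ht i j
      have := hT _ _ k hk
      rw [smul_sub, sub_eq_zero] at this
      rw [rs_pw_smul, rs_pw_smul]
      exact this
  exact ⟨g, hg⟩

theorem eq_of_cover {ι : Type u} (W : ι → X.Opens) (hcov : (⊤ : X.Opens) ≤ iSup W) {s s' : Γ(F, ⊤)}
    (h : ∀ i, rs F (le_top : W i ≤ ⊤) s = rs F le_top s') : s = s' :=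
  TopCat.Sheaf.eq_of_locally_eq' (H10Coh.sheafOf F) W ⊤ (fun _ => homOfLE le_top) hcov _ _ h

include hT in
/-- Local divisibility by `ϖ ^ N` gives global divisibility up to `ϖ ^ a`. -/
theorem exists_div (N : ℕ) (s : Γ(F, ⊤))
    (h : ∀ x : X, ∃ (W : X.Opens) (_ : x ∈ W) (w : Γ(F, W)), rs F le_top s = pw f ϖ W N • w) :
    ∃ g : Γ(F, ⊤), pw f ϖ ⊤ N • g = pw f ϖ ⊤ a • s := by
  choose W hxW w hw using h
  have hcov : (⊤ : X.Opens) ≤ iSup W := fun x _ => Opens.mem_iSup.2 ⟨x, hxW x⟩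
  obtain ⟨g, hg⟩ := exists_glue f ϖ hT W hcov w fun i j => ⟨N, by
    rw [smul_sub, ← rs_pw_smul, ← rs_pw_smul, ← hw, ← hw, rs, rs, rs, rs, H10Coh.mres_mres, H10Coh.mres_mres,
      sub_self]⟩
  refine ⟨g, eq_of_cover W hcov fun i => ?_⟩
  rw [rs_pw_smul, rs_pw_smul, hg, hw, smul_comm]

end Groth.Agent.H8Props.FreeOverDVR
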